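import Cfsg.Agent.Lib.Lead.HN8.Hom
import Cfsg.Agent.Lib.Helper5.HNGlue.HNHom
import Cfsg.Agent.Lib.Lead.HNP.DefsH

/-! # The subgroup `⟨x, y, z⟩` of the presented Harada–Norton group has a normal subgroup of index two that is a
non-split double cover of the Higman–Sims group, given the order of the group and the index of the subgroup -/

set_option autoImplicit false

namespace Cfsg.Agent.Lib.Lead.HN8

open Cfsg Cfsg.Spor Cfsg.Agent.HSP Cfsg.Agent.Lib.Lead.HNP Cfsg.Agent.Lib.Helper6.TC
  Cfsg.Agent.Lib.Helper6.TCG Cfsg.Agent.Lib.Helper5.HNGlue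

/-- the subgroup `⟨x, y, z⟩` of the presented Harada–Norton group -/
abbrev NH : Subgroup HNt :=
  (Subgroup.closure SH).map (PresentedGroup.mk (coxRelators ([] : List (HN.Gen × ℕ × HN.Gen)) ∪ {r | r ∈ HN.extra}))

/-- the subgroup `⟨x, y, z⟩` lies in the image of `Pt` -/
theorem NH_le_range : NH ≤ ιP.range := by
  rw [Subgroup.map_le_iff_le_comap, Subgroup.closure_le]
  intro s hs
  simp only [SH, Set.mem_insert_iff, Set.mem_singleton_iff] at hs
  rcases hs with rfl | rfl | rfl
  · exact ⟨γP 0, ιP_γP genH sgnH (by intro l hl; interval_cases l <;> rfl)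
      (by intro l hl; interval_cases l <;> rfl) (by norm_num)⟩
  · exact ⟨γP 2, ιP_γP genH sgnH (by intro l hl; interval_cases l <;> rfl)
      (by intro l hl; interval_cases l <;> rfl) (by norm_num)⟩
  · exact ⟨γP 4, ιP_γP genH sgnH (by intro l hl; interval_cases l <;> rfl)
      (by intro l hl; interval_cases l <;> rfl) (by norm_num)⟩

theorem cover_N (hcard : Nat.card HNt = 273030912000000) (hidx : NH.index = 1539000) :
    ∃ K : Subgroup NH, K.Normal ∧ K.index = 2 ∧ IsNonsplitDoubleCover K Spor.HS := by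
  -- the order of the subgroup
  have hN : Nat.card NH = 177408000 := by
    have h1 := Subgroup.card_mul_index NH
    rw [hidx, hcard] at h1
    exact Nat.eq_of_mul_eq_mul_right (by norm_num : 0 < 1539000) (h1.trans (by norm_num))
  have hfP : Finite Pt := finite_Pt
  have hfr : Finite ιP.range := Finite.of_surjective ιP.rangeRestrict ιP.rangeRestrict_surjective
  have hr1 : Nat.card ιP.range ≤ Nat.card Pt :=
    Nat.card_le_card_of_surjective ιP.rangeRestrict ιP.rangeRestrict_surjective
  have hr2 : Nat.card ιP.range ≤ Nat.card NH := by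
    rw [hN]
    exact hr1.trans card_Pt_le
  have hEq : NH = ιP.range := Subgroup.eq_of_le_of_card_ge NH_le_range hr2
  have hPt : Nat.card Pt ≤ Nat.card ιP.range := by
    rw [← hEq, hN]
    exact card_Pt_le
  have hbij : Function.Bijective ιP.rangeRestrict :=
    ιP.rangeRestrict_surjective.bijective_of_nat_card_le hPt
  -- the isomorphism
  let e : Pt ≃* NH := (MulEquiv.ofBijective ιP.rangeRestrict hbij).trans (MulEquiv.subgroupCongr hEq.symm)
  have hfN : Finite NH := Finite.of_equiv Pt e.toEquiv
  obtain ⟨h1, h2, h3⟩ := cover_of_hom (G := NH) P (φ.comp e.symm.toMonoidHom) (ε.comp e.symm.toMonoidHom)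
    ⟨e (γP 4), by simpa using ε_γ.2.2.2⟩
    (by rw [card_P, hN])
    (by
      intro p hp
      obtain ⟨k, hk1, hk2⟩ := exists_of_mem_P p hp
      exact ⟨e k, by simpa using hk1, by simpa using hk2⟩)
    (e (γP 0)) (by simpa using ε_γ.1)
    (by
      rw [← map_pow]
      simpa using φ_x_sq)
    (by
      rw [← map_pow]
      intro h
      exact x_sq_ne_one (e.injective (h.trans (map_one e).symm)))
    center_P hsEquiv.symm
  exact ⟨_, h1, h2, h3⟩

end Cfsg.Agent.Lib.Lead.HN8
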