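import Cfsg.Agent.Lib.Lead.PG.Slp

/-! # Registers of permutations and their codes -/

set_option autoImplicit false

namespace Cfsg.Agent.Lib.Lead.HN8

open Cfsg.Agent.PG

variable {n : ℕ}

/-- the registers of permutations have the registers of codes -/
def CodesOK (n : ℕ) : List (Equiv.Perm (Fin n)) → List ℕ → Prop := List.Forall₂ fun g c => enc n g = c

theorem CodesOK.getD {gs : List (Equiv.Perm (Fin n))} {cs : List ℕ} (h : CodesOK n gs cs) (i : ℕ) :
    enc n (gs.getD i 1) = cs.getD i (pone n) := by
  induction h generalizing i with
  | nil => simpa using pone_eq.symm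
  | cons hd _ ih =>
    cases i with
    | zero => simpa using hd
    | succ i => simpa using ih i

theorem CodesOK.run (hn : n ≤ 512) {is : List (ℕ × ℕ)} : ∀ {gs : List (Equiv.Perm (Fin n))} {cs : List ℕ},
    CodesOK n gs cs → CodesOK n (runM is gs) (run n is cs) := by
  induction is with
  | nil => intro gs cs h; exact h
  | cons ij is ih =>
    intro gs cs h
    rw [run_cons, runM]
    refine ih (List.Forall₂.cons ?_ h)
    rw [← pmul_enc hn, h.getD ij.1, h.getD ij.2]

/-- the element of a register of a program in a group lies in a subgroup that contains the base registers -/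
theorem getD_runM_mem {M : Type*} [Group M] (S : Subgroup M) (is : List (ℕ × ℕ)) (regs : List M)
    (h : ∀ g ∈ regs, g ∈ S) (i : ℕ) : (runM is regs).getD i 1 ∈ S := by
  have h1 := runM_mem S.toSubmonoid is regs h
  by_cases hi : i < (runM is regs).length
  · rw [List.getD_eq_getElem _ _ hi]
    exact h1 _ (List.getElem_mem _)
  · rw [List.getD_eq_default _ _ (not_lt.1 hi)]
    exact S.one_mem

/-- the image of a register of a program -/
theorem map_getD_runM {M N : Type*} [Group M] [Group N] (f : M →* N) (is : List (ℕ × ℕ)) (regs : List M) (i : ℕ) :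
    f ((runM is regs).getD i 1) = (runM is (regs.map f)).getD i 1 := by
  rw [← map_runM f is regs, ← map_one f, List.getD_map]

end Cfsg.Agent.Lib.Lead.HN8
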