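import Mathlib
import Cfsg.Prelude.Def_SporadicB

/-! # A criterion for a kernel of index two to be a non-split double cover

A group `G` of order at most `4 |P|` with a homomorphism `φ` to a group containing the centreless group `P`, a sign
`ε` onto `{±1}` whose kernel `K` covers `P` under `φ`, and an element `u` of `K` whose square is a non-identity
element killed by `φ`: then `K` is a non-split double cover of `P`. -/

set_option autoImplicit false

namespace Cfsg.Agent.Lib.Lead.HN8

open Cfsg

/-- the non-identity element of a group of order two is unique -/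
theorem eq_of_card_two {A : Type*} [Group A] (h : Nat.card A = 2) {a b : A} (ha : a ≠ 1) (hb : b ≠ 1) :
    a = b := by
  obtain ⟨y, _, hy⟩ := (Nat.card_eq_two_iff' (1 : A)).1 h
  rw [hy a ha, hy b hb]

theorem cover_of_hom {G Q Q' : Type*} [Group G] [Finite G] [Group Q] [Group Q'] (P : Subgroup Q)
    (φ : G →* Q) (ε : G →* ℤˣ) (hε : ∃ g, ε g = -1)
    (hcard : Nat.card G ≤ 4 * Nat.card P)
    (hP : ∀ p ∈ P, ∃ k, ε k = 1 ∧ φ k = p)
    (u : G) (hu1 : ε u = 1) (hu2 : φ (u ^ 2) = 1) (hu3 : u ^ 2 ≠ 1)
    (hZ : Subgroup.center P = ⊥) (iso : P ≃* Q') :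
    ε.ker.Normal ∧ ε.ker.index = 2 ∧ IsNonsplitDoubleCover ε.ker Q' := by
  classical
  have hidx : ε.ker.index = 2 := by
    rw [Subgroup.index_ker]
    have htop : ε.range = ⊤ := by
      rw [eq_top_iff]
      intro v _
      rcases Int.units_eq_one_or v with rfl | rfl
      · exact ε.range.one_mem
      · obtain ⟨g, hg⟩ := hε
        exact ⟨g, hg⟩
    rw [htop, Subgroup.card_top, Nat.card_eq_fintype_card]
    rfl
  refine ⟨MonoidHom.normal_ker ε, hidx, ?_⟩
  have hKcard : Nat.card ε.ker * 2 = Nat.card G := by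
    rw [← hidx]
    exact Subgroup.card_mul_index ε.ker
  -- the restriction
  let f : ε.ker →* Q := φ.comp ε.ker.subtype
  have hPle : P ≤ f.range := by
    intro p hp
    obtain ⟨k, hk1, hk2⟩ := hP p hp
    exact ⟨⟨k, MonoidHom.mem_ker.2 hk1⟩, hk2⟩
  let uK : ε.ker := ⟨u, MonoidHom.mem_ker.2 hu1⟩
  have huK : uK ^ 2 ∈ f.ker := by
    rw [MonoidHom.mem_ker]
    exact hu2
  have huK1 : uK ^ 2 ≠ 1 := by
    intro h
    apply hu3
    have := congrArg Subtype.val h
    simpa using this
  have hker2 : 2 ≤ Nat.card f.ker := by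
    have hne : f.ker ≠ ⊥ := fun h => huK1 ((Subgroup.mem_bot).1 (h ▸ huK))
    exact (Subgroup.one_lt_card_iff_ne_bot _).2 hne
  have hmul : Nat.card f.ker * Nat.card f.range = Nat.card ε.ker := by
    rw [← Subgroup.index_ker]
    exact Subgroup.card_mul_index f.ker
  have : Finite f.range := Finite.of_surjective f.rangeRestrict f.rangeRestrict_surjective
  have hPr : Nat.card P ≤ Nat.card f.range := Subgroup.card_le_of_le hPle
  have hrpos : 0 < Nat.card f.range := Nat.card_pos
  have h1 : Nat.card f.ker * Nat.card f.range * 2 ≤ 4 * Nat.card P := by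
    rw [hmul, hKcard]
    exact hcard
  have hk : Nat.card f.ker = 2 := by
    apply le_antisymm _ hker2
    by_contra hlt
    have h3 : 3 ≤ Nat.card f.ker := by omega
    have : 3 * Nat.card f.range * 2 ≤ 4 * Nat.card P :=
      le_trans (Nat.mul_le_mul_right 2 (Nat.mul_le_mul_right _ h3)) h1
    omega
  have hr : Nat.card f.range = Nat.card P := by
    rw [hk] at h1
    omega
  have hrange : P = f.range := Subgroup.eq_of_le_of_card_ge hPle (le_of_eq hr)
  -- the homomorphism onto `P`
  let f' : ε.ker →* P := f.codRestrict P fun k => hrange ▸ ⟨k, rfl⟩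
  have hsurj : Function.Surjective f' := by
    intro p
    obtain ⟨k, hk⟩ := hPle p.2
    exact ⟨k, Subtype.ext hk⟩
  have hker' : f'.ker = f.ker := MonoidHom.ker_codRestrict _ _ _
  -- the centre
  have hcen : Subgroup.center ε.ker = f'.ker := by
    apply le_antisymm
    · intro z hz
      rw [MonoidHom.mem_ker]
      have : f' z ∈ Subgroup.center P := by
        rw [Subgroup.mem_center_iff]
        intro p
        obtain ⟨k, rfl⟩ := hsurj p
        rw [← map_mul, ← map_mul, Subgroup.mem_center_iff.1 hz k]
      rw [hZ] at this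
      exact Subgroup.mem_bot.1 this
    · rw [hker']
      intro k hk0
      rw [Subgroup.mem_center_iff]
      intro g
      by_cases hk1 : k = 1
      · rw [hk1, mul_one, one_mul]
      · have hc : g * k * g⁻¹ ∈ f.ker := (MonoidHom.normal_ker f).conj_mem k hk0 g
        have hne : g * k * g⁻¹ ≠ 1 := by
          intro h
          apply hk1
          have : k = g⁻¹ * (g * k * g⁻¹) * g := by group
          rw [this, h]
          group
        have := eq_of_card_two hk (a := (⟨g * k * g⁻¹, hc⟩ : f.ker)) (b := ⟨k, hk0⟩)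
          (fun h => hne (congrArg Subtype.val h)) (fun h => hk1 (congrArg Subtype.val h))
        have h2 : g * k * g⁻¹ = k := congrArg Subtype.val this
        calc g * k = g * k * g⁻¹ * g := by group
          _ = k * g := by rw [h2]
  have hcc : Nat.card (Subgroup.center ε.ker) = 2 := by rw [hcen, hker', hk]
  refine ⟨hcc, ?_, ?_⟩
  · exact ⟨(QuotientGroup.quotientMulEquivOfEq hcen).trans
      ((QuotientGroup.quotientKerEquivOfSurjective f' hsurj).trans iso)⟩
  · intro L hL
    obtain ⟨⟨z, l⟩, hzl, _⟩ := (Subgroup.isComplement_iff_existsUnique.1 hL) uK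
    simp only at hzl
    have hz2 : (z : ε.ker) ^ 2 = 1 := by
      have := pow_card_eq_one' (G := Subgroup.center ε.ker) (x := z)
      rw [hcc] at this
      have := congrArg Subtype.val this
      simpa using this
    have hzc : ∀ g : ε.ker, g * (z : ε.ker) = (z : ε.ker) * g := Subgroup.mem_center_iff.1 z.2
    have hu : uK ^ 2 = (l : ε.ker) ^ 2 := by
      rw [← hzl]
      calc ((z : ε.ker) * (l : ε.ker)) ^ 2 = (z : ε.ker) * ((l : ε.ker) * (z : ε.ker)) * (l : ε.ker) := by
            rw [pow_two]; group
        _ = (z : ε.ker) ^ 2 * (l : ε.ker) ^ 2 := by rw [hzc]; rw [pow_two, pow_two]; group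
        _ = (l : ε.ker) ^ 2 := by rw [hz2, one_mul]
    have hmemL : uK ^ 2 ∈ L := by
      rw [hu]
      exact L.pow_mem l.2 2
    have hmemZ : uK ^ 2 ∈ Subgroup.center ε.ker := by
      rw [hcen, hker']
      exact huK
    exact huK1 ((Subgroup.disjoint_def.1 hL.disjoint) hmemZ hmemL)

end Cfsg.Agent.Lib.Lead.HN8
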