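import Mathlib.Data.Nat.Notation

/-! # The Higman–Sims group on 100 points: the images of the generators `x, y, z` of the subgroup `⟨x, y, z⟩` of the
Harada–Norton group (generated) -/

set_option autoImplicit false

namespace Cfsg.Agent.Lib.Lead.HN8

/-- the code of the image of `x` -/
def cX : ℕ := 793060500748338956785400564349086999870412507320260719625972391385781354054733696507524060762787281592166722980139871400834941329880210182624920013425493958781418524519775266325980522972849359363597787345128436003750086933152661139540384623296320585784902256350609296987
/-- the code of the image of `y` -/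
def cY : ℕ := 1486801822328259208129788518969192122507895072619696321654644420751102575924811129831336820390686222607689404455747839542684049883348601996587405062835089388987252794616406100261013216305766781642374840790388693042433728573726836574647707514515683162478884690702462901848
/-- the code of the inverse of the image of `y` -/
def cYi : ℕ := 1371656572769371575300252520969049917482299782199628667940692403238453974656301448635603582541579225902608610312135922305697214551753919291966241854240633806850285100062144261750672909667472867525537803398212406589782163706203078883687547429481218047759288357512259337753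
/-- the code of the image of `z` -/
def cZ : ℕ := 1635029972600658258258417736316472659003411845613428283729475478565247454056210577521975294489227220097203365870523313330143434069330057118772033738755720764696012228051143826545949636089245006627163447748513526075023475368162241135689659151556217066551258978628187718217
/-- the program of the two generators of the Higman–Sims group from `x, y, y⁻¹` and their conjugates under `z` -/
def slpAB : List (ℕ × ℕ) := [(4, 5), (6, 4), (3, 7), (8, 7), (7, 9), (9, 6), (6, 9), (12, 6), (6, 13), (10, 8), (8, 10), (12, 8), (16, 8), (8, 16), (15, 8), (8, 15), (20, 8), (8, 20), (22, 8), (8, 22), (24, 8), (22, 8), (8, 22), (28, 8), (8, 29), (26, 8), (8, 26), (28, 5), (5, 28), (30, 5), (5, 30), (11, 1), (1, 13), (35, 5), (5, 36), (8, 1), (1, 10), (5, 5), (5, 5), (7, 1), (1, 7), (5, 3), (3, 5), (11, 3), (3, 11), (9, 3), (3, 9), (11, 3), (3, 11), (17, 3), (3, 17), (19, 3), (3, 19), (17, 5), (5, 17), (23, 5), (5, 23), (2, 1), (1, 4), (23, 9), (9, 23), (8, 1), (1, 10), (5, 5), (5, 5), (3, 7), (7, 3), (9, 3), (3, 9), (7, 5), (3, 11), (9, 5), (5, 9), (11, 5), (5, 11), (13, 5), (14, 4), (19, 3), (3, 19), (17, 2), (21, 18), (18, 23), (20, 8), (8, 20), (5, 1), (1,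 7), (24, 6), (16, 0), (30, 8), (16, 0), (28, 14), (22, 0), (10, 6), (5, 12), (9, 2), (7, 3), (4, 1), (7, 1), (5, 0), (11, 5), (1, 0), (59, 35), (0, 5), (0, 3), (83, 58), (0, 35), (0, 14), (0, 6)]
/-- the register of the first generator -/
def idxA : ℕ := 4
/-- the register of the second generator -/
def idxB : ℕ := 0

end Cfsg.Agent.Lib.Lead.HN8
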