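import Cfsg.Agent.Lib.Lead.HN8.Cover
import Cfsg.Agent.Lib.Lead.HN8.Data
import Cfsg.Agent.Lib.Lead.HN8.Codes
import Cfsg.Agent.Lib.Lead.HS.Out
import Cfsg.Agent.Lib.Lead.PG.Pow
import Cfsg.Agent.Lib.Lead.HNP.P1408
import Cfsg.Agent.Lib.Lead.HNP.CardBound

/-! # The subgroup `⟨x, y, z⟩` of the Harada–Norton group as a presented group has a normal subgroup of index two
that is a non-split double cover of the Higman–Sims group -/

set_option autoImplicit false
set_option maxRecDepth 100000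

namespace Cfsg.Agent.Lib.Lead.HN8

open Cfsg Cfsg.Spor Cfsg.Agent.PG Cfsg.Agent.HSP Cfsg.Agent.Lib.Lead.HNP Cfsg.Agent.Lib.Helper6.TC
  Cfsg.Agent.Lib.Helper6.TCG

/-! ### the codes -/

theorem chk_codes8 : codeOK 100 cX cX = true ∧ codeOK 100 cY cYi = true ∧ codeOK 100 cZ cZ = true := by
  decide +kernel

/-- the image of `x` -/
noncomputable def gX : Equiv.Perm (Fin 100) := dec 100 cX
/-- the image of `y` -/
noncomputable def gY : Equiv.Perm (Fin 100) := dec 100 cY
/-- the image of `z` -/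
noncomputable def gZ : Equiv.Perm (Fin 100) := dec 100 cZ

theorem enc_gX : enc 100 gX = cX := enc_dec (isCode_of_codeOK n_le chk_codes8.1)
theorem enc_gY : enc 100 gY = cY := enc_dec (isCode_of_codeOK n_le chk_codes8.2.1)
theorem enc_gZ : enc 100 gZ = cZ := enc_dec (isCode_of_codeOK n_le chk_codes8.2.2)

theorem enc_mul8 (g h : Equiv.Perm (Fin 100)) : enc 100 (g * h) = pmul 100 (enc 100 g) (enc 100 h) :=
  (pmul_enc n_le g h).symm

theorem enc_inv8 (g : Equiv.Perm (Fin 100)) : enc 100 g⁻¹ = pinv 100 (enc 100 g) := (pinv_enc n_le g).symm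

theorem enc_pow8 (g : Equiv.Perm (Fin 100)) (k : ℕ) : enc 100 (g ^ k) = ppow 100 (enc 100 g) k :=
  (ppow_enc n_le g k).symm

theorem enc_one8 : enc 100 (1 : Equiv.Perm (Fin 100)) = pone 100 := pone_eq.symm

/-! ### the homomorphism to the permutations of 100 points -/

/-- the images of the generators -/
noncomputable def fP : PGen → Equiv.Perm (Fin 100)
  | .x => gX
  | .y => gY
  | .z => gZ

theorem fP_rel : ∀ r ∈ Pextra, FreeGroup.lift fP r = 1 := by
  intro r hr
  simp only [Pextra, List.mem_cons, List.not_mem_nil, or_false] at hr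
  rcases hr with rfl | rfl | rfl | rfl | rfl | rfl | rfl | rfl | rfl | rfl
  all_goals
    simp only [map_mul, map_pow, map_inv, FreeGroup.lift_apply_of, fP]
    apply enc_injective n_le
    simp only [enc_mul8, enc_inv8, enc_pow8, enc_one8, enc_gX, enc_gY, enc_gZ]
    decide +kernel

/-- the homomorphism -/
noncomputable def φ : Pt →* Equiv.Perm (Fin 100) := plainLift fP fP_rel

/-! ### the sign -/

/-- the signs of the generators -/
def fE : PGen → ℤˣ
  | .x => 1
  | .y => 1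
  | .z => -1

theorem fE_rel : ∀ r ∈ Pextra, FreeGroup.lift fE r = 1 := by
  intro r hr
  simp only [Pextra, List.mem_cons, List.not_mem_nil, or_false] at hr
  rcases hr with rfl | rfl | rfl | rfl | rfl | rfl | rfl | rfl | rfl | rfl
  all_goals
    simp only [map_mul, map_pow, map_inv, FreeGroup.lift_apply_of, fE]
    decide

/-- the sign -/
noncomputable def ε : Pt →* ℤˣ := plainLift fE fE_rel

/-! ### the letters -/

theorem φ_γ : φ (γP 0) = gX ∧ φ (γP 2) = gY ∧ φ (γP 3) = gY⁻¹ ∧ φ (γP 4) = gZ := by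
  refine ⟨?_, ?_, ?_, ?_⟩ <;>
  · rw [γP, φ, plainLift_mk]
    simp [lt, genP, sgnP, fP]

theorem ε_γ : ε (γP 0) = 1 ∧ ε (γP 2) = 1 ∧ ε (γP 3) = 1 ∧ ε (γP 4) = -1 := by
  refine ⟨?_, ?_, ?_, ?_⟩ <;>
  · rw [γP, ε, plainLift_mk]
    simp [lt, genP, sgnP, fE]

/-! ### the generators of the Higman–Sims group are images of elements of the kernel of the sign -/

/-- the base registers: `x, y, y⁻¹` and their conjugates under `z`, the newest first -/
noncomputable def regsPt : List Pt :=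
  [γP 4 * γP 3 * γP 4, γP 4 * γP 2 * γP 4, γP 4 * γP 0 * γP 4, γP 3, γP 2, γP 0]

/-- the codes of the base registers -/
def regsC : List ℕ :=
  [pmul 100 (pmul 100 cZ cYi) cZ, pmul 100 (pmul 100 cZ cY) cZ, pmul 100 (pmul 100 cZ cX) cZ, cYi, cY, cX]

theorem chk_slp8 : pinv 100 cY = cYi ∧
    runK 100 slpAB regsC (fun R => [R.getD idxA (pone 100), R.getD idxB (pone 100)]) = [ca, cb] := by
  decide +kernel

theorem enc_gYi : enc 100 gY⁻¹ = cYi := by rw [enc_inv8, enc_gY]; exact chk_slp8.1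

theorem regs_ok : CodesOK 100 (regsPt.map φ) regsC := by
  obtain ⟨h0, h2, h3, h4⟩ := φ_γ
  simp only [regsPt, regsC, List.map_cons, List.map_nil, map_mul, h0, h2, h3, h4]
  refine List.Forall₂.cons ?_ (List.Forall₂.cons ?_ (List.Forall₂.cons ?_ (List.Forall₂.cons ?_
    (List.Forall₂.cons ?_ (List.Forall₂.cons ?_ List.Forall₂.nil)))))
  all_goals simp only [enc_mul8, enc_gX, enc_gY, enc_gZ, enc_gYi]

theorem regs_ker : ∀ g ∈ regsPt, g ∈ ε.ker := by
  obtain ⟨h0, h2, h3, h4⟩ := ε_γ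
  intro g hg
  simp only [regsPt, List.mem_cons, List.not_mem_nil, or_false] at hg
  rcases hg with rfl | rfl | rfl | rfl | rfl | rfl <;>
  · rw [MonoidHom.mem_ker]
    simp only [map_mul, h0, h2, h3, h4]
    try decide

theorem exists_gens : (∃ k, ε k = 1 ∧ φ k = gA) ∧ ∃ k, ε k = 1 ∧ φ k = gB := by
  have h := chk_slp8.2
  rw [runK_eq] at h
  have hA : (run 100 slpAB regsC).getD idxA (pone 100) = ca := (List.cons.inj h).1
  have hB : (run 100 slpAB regsC).getD idxB (pone 100) = cb := (List.cons.inj (List.cons.inj h).2).1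
  have hrun := CodesOK.run n_le (is := slpAB) regs_ok
  constructor
  · refine ⟨(runM slpAB regsPt).getD idxA 1, MonoidHom.mem_ker.1 (getD_runM_mem _ _ _ regs_ker _), ?_⟩
    apply enc_injective n_le
    rw [map_getD_runM, hrun.getD, hA, enc_gA]
  · refine ⟨(runM slpAB regsPt).getD idxB 1, MonoidHom.mem_ker.1 (getD_runM_mem _ _ _ regs_ker _), ?_⟩
    apply enc_injective n_le
    rw [map_getD_runM, hrun.getD, hB, enc_gB]

theorem exists_of_mem_P : ∀ p ∈ P, ∃ k, ε k = 1 ∧ φ k = p := by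
  have hle : P ≤ ε.ker.map φ := by
    rw [P, Subgroup.closure_le]
    intro p hp
    rcases hp with rfl | rfl
    · obtain ⟨k, hk1, hk2⟩ := exists_gens.1
      exact ⟨k, MonoidHom.mem_ker.2 hk1, hk2⟩
    · obtain ⟨k, hk1, hk2⟩ := exists_gens.2
      exact ⟨k, MonoidHom.mem_ker.2 hk1, hk2⟩
  intro p hp
  obtain ⟨k, hk1, hk2⟩ := hle hp
  exact ⟨k, MonoidHom.mem_ker.1 hk1, hk2⟩

/-! ### the square of `x` -/

theorem φ_x_sq : φ (γP 0 ^ 2) = 1 := by
  rw [map_pow, φ_γ.1]
  apply enc_injective n_le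
  simp only [enc_pow8, enc_one8, enc_gX]
  decide +kernel

theorem x_sq_ne_one : γP 0 ^ 2 ≠ 1 := by
  intro h
  have hw : ∀ x ∈ [0, 0], x < P1408.data.c.g := by
    intro x hx
    simp only [List.mem_cons, List.not_mem_nil, or_false, or_self] at hx
    rw [hx]
    decide
  have h1 := (ρ_fix_iff P1408.data hw P1408.data.o).1
  have h2 : ([0, 0].map P1408.data.γ).prod = γP 0 ^ 2 := by
    simp only [List.map_cons, List.map_nil, List.prod_cons, List.prod_nil, mul_one, pow_two]
    rfl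
  rw [h2, h, map_one] at h1
  have h3 : P1408.data.T.trace 0 [0, 0] = 0 := h1 rfl
  revert h3
  decide +kernel

/-! ### the cover -/

theorem cover_Pt : ε.ker.Normal ∧ ε.ker.index = 2 ∧ IsNonsplitDoubleCover ε.ker Spor.HS := by
  refine cover_of_hom P φ ε ⟨γP 4, ε_γ.2.2.2⟩ ?_ exists_of_mem_P (γP 0) ε_γ.1 φ_x_sq x_sq_ne_one center_P
    hsEquiv.symm
  rw [card_P]
  exact card_Pt_le

end Cfsg.Agent.Lib.Lead.HN8
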